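/-
Maximal local subgroups whose Fitting subgroup has order divisible by two primes (Bender).

* `exists_local_center`, `inf_centralizer_inf_eq_bot`, `invSubgroup_le_piCoreOf`
-/
import Cfsg.Agent.EqLemmas
import Cfsg.Agent.S1264
import Cfsg.Agent.Lib.Cores.Fitting
import Cfsg.Agent.Lib.Coprime.PQ
import Cfsg.Agent.Lib.Solvable.Fitting
import Cfsg.Agent.Lib.OddOrder.Transitivity

set_option autoImplicit false

namespace Cfsg.Agent.LocalFitting

open scoped Pointwise commutatorElement

variable {G : Type*} [Group G] [Finite G]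

/-- A solvable group without normal `π'`-subgroup has no `π'`-subgroup centralizing all `O_p`, `p ∈ π`. -/
theorem eq_bot_of_centralizes_pCore (n : ℕ) [Group.IsSolvable G]
    (h0 : Cfsg.piCore (Cfsg.primesNotDvd n) G = ⊥) {Y : Subgroup G}
    (hY : OddTrans.IsPi (Cfsg.primesNotDvd n) Y)
    (hC : ∀ p : ℕ, p.Prime → p ∣ n → Y ≤ Subgroup.centralizer (Cfsg.pCore p G : Set G)) :
    Y = ⊥ := by
  set π : Set ℕ := {r | r.Prime ∧ r ∣ n}
  have hbot : ∀ p : Nat.Primes, ¬ (p : ℕ) ∣ n → Cfsg.pCore (p : ℕ) G = ⊥ := by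
    intro p hp
    have : Fact (p : ℕ).Prime := ⟨p.2⟩
    rw [eq_bot_iff, ← h0]
    refine Cores.le_piCore inferInstance fun r hr hd => ?_
    rw [(Nat.prime_dvd_prime_iff_eq hr p.2).1 (hr.dvd_of_dvd_pow (n := _)
      ((IsPGroup.iff_card.1 (Cores.isPGroup_pCore (p : ℕ) G)).choose_spec ▸ hd))]
    exact ⟨p.2, hp⟩
  have hF : Cfsg.fittingSubgroup G ≤ Subgroup.centralizer (Y : Set G) := by
    rw [Cores.fittingSubgroup_eq_iSup_pCore]
    refine iSup_le fun p => ?_
    by_cases hp : (p : ℕ) ∣ n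
    · exact Subgroup.le_centralizer_iff.1 (hC p p.2 hp)
    · rw [hbot p hp]
      exact bot_le
  have hFπ : Cfsg.fittingSubgroup G ≤ Cfsg.piCore π G := by
    rw [Cores.fittingSubgroup_eq_iSup_pCore]
    refine iSup_le fun p => ?_
    by_cases hp : (p : ℕ) ∣ n
    · have : Fact (p : ℕ).Prime := ⟨p.2⟩
      refine Cores.le_piCore inferInstance fun r hr hd => ?_
      rw [(Nat.prime_dvd_prime_iff_eq hr p.2).1 (hr.dvd_of_dvd_pow (n := _)
        ((IsPGroup.iff_card.1 (Cores.isPGroup_pCore (p : ℕ) G)).choose_spec ▸ hd))]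
      exact ⟨p.2, hp⟩
    · rw [hbot p hp]
      exact bot_le
  have hYle : Y ≤ Cfsg.piCore π G :=
    ((Subgroup.le_centralizer_iff.1 hF).trans (Solvable.centralizer_fitting_le G)).trans hFπ
  rw [← Subgroup.card_eq_one]
  by_contra hne
  obtain ⟨r, hr, hd⟩ := Nat.exists_prime_and_dvd hne
  exact (hY r hr hd).2 (Cores.card_piCore π hr (hd.trans (Subgroup.card_dvd_of_le hYle))).2

variable {H : Subgroup G}

/-- For each prime dividing `|F(H)|` a nontrivial subgroup of the centre of `O_p(H)`. -/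
theorem exists_local_center (hHmax : ∀ L : Subgroup G, Cfsg.IsLocalSubgroup L → H ≤ L → L = H)
    {M : Subgroup G} (hM : M ≤ Cfsg.fittingOf H)
    (hCM : Cfsg.fittingOf H ⊓ Subgroup.centralizer (M : Set G) ≤ M)
    {p : ℕ} (hp : p.Prime) (hpd : p ∣ Nat.card (Cfsg.fittingOf H)) :
    ∃ Z : Subgroup G, IsPGroup p Z ∧ (Z ≤ M ∧ Z ≤ Subgroup.centralizer (Cfsg.fittingOf H : Set G)) ∧
      H ≤ Subgroup.normalizer (Z : Set G) ∧
      Subgroup.centralizer (Z : Set G) ≤ H := by
  have : Fact p.Prime := ⟨hp⟩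
  set O : Subgroup H := Cfsg.pCore p H with hO
  set Z₀ : Subgroup H := (Subgroup.center O).map O.subtype with hZ₀
  have hOne : O ≠ ⊥ := by
    intro h
    have h2 : Cfsg.pCore p (Cfsg.fittingSubgroup H) = ⊥ := by
      rw [← Subgroup.map_eq_bot_iff_of_injective _ (Cfsg.fittingSubgroup H).subtype_injective,
        Cores.pCore_fittingSubgroup]
      exact h
    rw [Cfsg.fittingOf, Cores.card_map_subtype] at hpd
    obtain ⟨P⟩ := (inferInstance : Nonempty (Sylow p (Cfsg.fittingSubgroup H)))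
    have hPn : (P : Subgroup (Cfsg.fittingSubgroup H)).Normal :=
      P.normal_of_normalizerCondition Group.normalizerCondition_of_isNilpotent
    exact P.ne_bot_of_dvd_card hpd (by rw [← Cores.pCore_eq_sylow P]; exact h2)
  have hZ₀ne : Z₀ ≠ ⊥ := by
    have : Nontrivial O := (Subgroup.nontrivial_iff_ne_bot O).2 hOne
    have := (Cores.isPGroup_pCore p H).center_nontrivial
    rw [hZ₀, Ne, Subgroup.map_eq_bot_iff_of_injective _ O.subtype_injective]
    exact (Subgroup.nontrivial_iff_ne_bot _).1 this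
  have hZ₀n : Z₀.Normal := Cores.map_subtype_normal_of_characteristic O _
  have hZ₀C : Z₀ ≤ Subgroup.centralizer (Cfsg.fittingSubgroup H : Set H) := by
    rw [Subgroup.le_centralizer_iff, Cores.fittingSubgroup_eq_iSup_pCore]
    refine iSup_le fun r => fun x hx => ?_
    rintro _ ⟨z, hz, rfl⟩
    by_cases hr : (r : ℕ) = p
    · rw [hr] at hx
      exact (congrArg Subtype.val (Subgroup.mem_center_iff.1 hz ⟨x, hx⟩)).symm
    · have : Fact (r : ℕ).Prime := ⟨r.2⟩
      exact (Cores.pCore_commute hr hx z.2).eq.symm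
  set Z := Z₀.map H.subtype with hZ
  have hZp : IsPGroup p Z := ((Cores.isPGroup_pCore p H).to_le (Subgroup.map_subtype_le _)).map _
  have hHN : H ≤ Subgroup.normalizer (Z : Set G) :=
    (Cores.normalizer_le_normalizer_map (H := H) Z₀ (hC := ?_)).trans' Subgroup.le_normalizer
  rotate_left
  · exact Subgroup.characteristic_iff_map_eq.2 fun e => by
      rw [hZ₀, Subgroup.map_map]
      have hOe : O.map e.toMonoidHom = O := Cores.pCore_map_mulEquiv e p
      set e' : O ≃* O := (e.subgroupMap O).trans (MulEquiv.subgroupCongr hOe)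
      have he : (MonoidHom.comp e.toMonoidHom O.subtype) = O.subtype.comp e'.toMonoidHom :=
        MonoidHom.ext fun x => rfl
      rw [he, ← Subgroup.map_map, Subgroup.characteristic_iff_map_eq.1 inferInstance e']
  have hN : Subgroup.normalizer (Z : Set G) = H := by
    refine hHmax _ ⟨p, Z, hp, hZp, ?_, rfl⟩ hHN
    rwa [hZ, Ne, Subgroup.map_eq_bot_iff_of_injective _ H.subtype_injective]
  have hZF : Z ≤ Subgroup.centralizer (Cfsg.fittingOf H : Set G) := by
    rintro _ ⟨z, hz, rfl⟩ _ ⟨m', hm', rfl⟩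
    exact congrArg Subtype.val (Subgroup.mem_centralizer_iff.1 (hZ₀C hz) m' hm')
  refine ⟨Z, hZp, ⟨le_trans (le_inf ?_ (hZF.trans (Subgroup.centralizer_le hM))) hCM, hZF⟩, hHN,
    (Subgroup.centralizer_le_normalizer _).trans hN.le⟩
  exact Subgroup.map_mono ((Subgroup.map_subtype_le _).trans (Cores.pCore_le_fittingSubgroup p))

/-- A subgroup of `R ∩ H ∩ C(M)` of order prime to `|F(H)|` is trivial. -/
theorem inf_centralizer_inf_eq_bot {M R Y : Subgroup G} (hM : M ≤ Cfsg.fittingOf H)
    (hCM : Cfsg.fittingOf H ⊓ Subgroup.centralizer (M : Set G) ≤ M) (hR : Group.IsSolvable R)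
    (hXR : H ⊓ Subgroup.centralizer (Cfsg.fittingOf H : Set G) ≤ Subgroup.normalizer (R : Set G))
    (hYR : Y ≤ R) (hYH : Y ≤ H) (hYM : Y ≤ Subgroup.centralizer (M : Set G))
    (hY : OddTrans.IsPi (Cfsg.primesNotDvd (Nat.card (Cfsg.fittingOf H))) Y) : Y = ⊥ := by
  set F := Cfsg.fittingOf H with hF
  have hFn : Group.IsNilpotent F := Cores.isNilpotent_map _ inferInstance
  have hHF : H ≤ Subgroup.normalizer (F : Set G) :=
    Subgroup.le_normalizer.trans (Cores.normalizer_le_normalizer_map (Cfsg.fittingSubgroup H))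
  have hcop : (Nat.card Y).Coprime (Nat.card F) := (OddTrans.coprime_of_primesNotDvd hY).symm
  have hYC : Y ≤ Subgroup.centralizer (F : Set G) := by
    refine Coprime.le_centralizer_of_centralizer_le hFn (hYH.trans hHF) hcop (le_inf inf_le_left ?_)
    have hMC : M ≤ F ⊓ Subgroup.centralizer (Y : Set G) :=
      le_inf hM (Subgroup.le_centralizer_iff.1 hYM)
    exact ((inf_le_inf_left F (Subgroup.centralizer_le hMC)).trans hCM).trans
      (hMC.trans inf_le_right)
  set S : Subgroup H := (R ⊓ (H ⊓ Subgroup.centralizer (F : Set G))).subgroupOf H with hS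
  have hS1 : S ≤ Cfsg.fittingSubgroup H := by
    refine (S1264.result S (fun s hs => ?_) (fun x hx => ?_) ?_).trans (Subgroup.map_subtype_le _)
    · intro f hf
      exact Subtype.ext (hs.2.2 _ ⟨f, hf, rfl⟩)
    · have hx' : (x : G) ∈ H ⊓ Subgroup.centralizer (F : Set G) := by
        refine ⟨x.2, ?_⟩
        rintro _ ⟨f, hf, rfl⟩
        exact congrArg Subtype.val (hx f hf)
      refine Coprime.mem_normalizer_of_forall fun y hy => ?_
      exact ⟨(Subgroup.mem_normalizer_iff.1 (hXR hx') _).1 hy.1,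
        (H ⊓ Subgroup.centralizer (F : Set G)).mul_mem (Subgroup.mul_mem _ hx' hy.2)
          (Subgroup.inv_mem _ hx')⟩
    · have : Group.IsSolvable ↥(R ⊓ (H ⊓ Subgroup.centralizer (F : Set G))) :=
        Coprime.isSolvable_of_le inf_le_left hR
      exact Solvable.isSolvable_subgroupOf H
  have hYF : Y ≤ F := fun y hy =>
    ⟨⟨y, hYH hy⟩, hS1 (show _ ∈ _ from ⟨hYR hy, hYH hy, hYC hy⟩), rfl⟩
  rw [← Subgroup.card_eq_one]
  exact Nat.Coprime.eq_one_of_dvd hcop (Subgroup.card_dvd_of_le hYF)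

theorem invSubgroup_le_piCoreOf (hHmax : ∀ L : Subgroup G, Cfsg.IsLocalSubgroup L → H ≤ L → L = H)
    (hF2 : 2 ≤ (Nat.card (Cfsg.fittingOf H)).primeFactors.card)
    {M R : Subgroup G} (hM : M ≤ Cfsg.fittingOf H)
    (hCM : Cfsg.fittingOf H ⊓ Subgroup.centralizer (M : Set G) ≤ M) (hR : Group.IsSolvable R)
    (hMR : M ≤ Subgroup.normalizer (R : Set G))
    (hXR : H ⊓ Subgroup.centralizer (Cfsg.fittingOf H : Set G) ≤ Subgroup.normalizer (R : Set G))
    {Y : Subgroup G} (hYR : Y ≤ R) (hMY : M ≤ Subgroup.normalizer (Y : Set G))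
    (hY : OddTrans.IsPi (Cfsg.primesNotDvd (Nat.card (Cfsg.fittingOf H))) Y) :
    Y ≤ Cfsg.piCoreOf (Cfsg.primesNotDvd (Nat.card (Cfsg.fittingOf H))) R := by
  set n := Nat.card (Cfsg.fittingOf H) with hn
  set O := Cfsg.piCoreOf (Cfsg.primesNotDvd n) R with hO
  have hn0 : n ≠ 0 := Nat.card_pos.ne'
  -- `Y` meets `H` trivially
  have hYH : Y ⊓ H = ⊥ := by
    refine inf_centralizer_inf_eq_bot hM hCM hR hXR (inf_le_left.trans hYR) inf_le_right ?_
      fun r hr hd => hY r hr (hd.trans (Subgroup.card_dvd_of_le inf_le_left))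
    have h1 : ⁅Y ⊓ H, M⁆ ≤ Y ⊓ Cfsg.fittingOf H := by
      refine le_inf ((Subgroup.commutator_mono inf_le_left le_rfl).trans
        (Subgroup.le_normalizer_iff_commutator_le_left.1 hMY)) ?_
      refine (Subgroup.commutator_mono inf_le_right hM).trans
        (Subgroup.le_normalizer_iff_commutator_le_right.1 ?_)
      exact Subgroup.le_normalizer.trans
        (Cores.normalizer_le_normalizer_map (Cfsg.fittingSubgroup H))
    rw [← Subgroup.commutator_eq_bot_iff_le_centralizer, eq_bot_iff]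
    exact h1.trans (Coprime.inf_eq_bot (OddTrans.coprime_of_primesNotDvd hY).symm).le
  -- pass to `N_G(R) ⧸ O`
  set N := Subgroup.normalizer (R : Set G) with hN
  have hON : O ≤ N := (OddTrans.piCoreOf_le _ _).trans Subgroup.le_normalizer
  have : (O.subgroupOf N).Normal := Subgroup.normal_subgroupOf_of_le_normalizer
    fun g hg => OddTrans.mem_normalizer_piCoreOf hg
  set f := QuotientGroup.mk' (O.subgroupOf N) with hf
  set T : Subgroup (N ⧸ O.subgroupOf N) := (R.subgroupOf N).map f with hT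
  have hTn : T.Normal := Subgroup.Normal.map inferInstance f (QuotientGroup.mk'_surjective _)
  have : Group.IsSolvable T := by
    have : Group.IsSolvable R := hR
    have := Solvable.isSolvable_subgroupOf (H := R) N
    exact Solvable.isSolvable_map f _
  have hRN : R ≤ N := Subgroup.le_normalizer
  -- the `π'`-core of the image of `R` is trivial
  have hT0 : Cfsg.piCore (Cfsg.primesNotDvd n) T = ⊥ := by
    set g : R →* T := (f.comp (Subgroup.inclusion hRN)).codRestrict T
      fun x => Subgroup.mem_map_of_mem f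
        (show Subgroup.inclusion hRN x ∈ R.subgroupOf N from x.2) with hg
    have hgs : Function.Surjective g := by
      rintro ⟨_, x, hx, rfl⟩
      exact ⟨⟨x, hx⟩, rfl⟩
    have hker : g.ker = Cfsg.piCore (Cfsg.primesNotDvd n) R := by
      ext x
      rw [MonoidHom.mem_ker, hg, ← OneMemClass.coe_eq_one]
      show f (Subgroup.inclusion hRN x) = 1 ↔ _
      rw [hf, QuotientGroup.mk'_apply, QuotientGroup.eq_one_iff,
        Subgroup.mem_subgroupOf, hO, Cfsg.piCoreOf, Subgroup.mem_map]
      exact ⟨fun ⟨y, hy, he⟩ => Subtype.ext he ▸ hy, fun h => ⟨x, h, rfl⟩⟩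
    rw [← Cores.piCore_map_of_ker g hgs (fun q hq hd => ?_), Subgroup.map_eq_bot_iff, hker]
    rw [hker] at hd
    exact Cores.card_piCore _ hq hd
  have hOY : OddTrans.IsPi (Cfsg.primesNotDvd n) O := OddTrans.piCoreOf_pi _ _
  -- images
  have hYN : Y ≤ N := hYR.trans hRN
  set Y' : Subgroup (N ⧸ O.subgroupOf N) := (Y.subgroupOf N).map f with hY'
  have hY'T : Y' ≤ T := Subgroup.map_mono (Subgroup.comap_mono hYR)
  have hY'pi : OddTrans.IsPi (Cfsg.primesNotDvd n) (Y'.subgroupOf T) := by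
    intro r hr hd
    rw [Cores.card_subgroupOf hY'T] at hd
    refine hY r hr ?_
    rw [← Cores.card_subgroupOf hYN]
    exact hd.trans (Subgroup.card_map_dvd _ f)
  have key : Y'.subgroupOf T = ⊥ := by
    refine eq_bot_of_centralizes_pCore n hT0 hY'pi fun p hp hpn => ?_
    have : Fact p.Prime := ⟨hp⟩
    set V : Subgroup (N ⧸ O.subgroupOf N) := (Cfsg.pCore p T).map T.subtype with hV
    have hVn : V.Normal := Cores.map_subtype_normal_of_characteristic T _
    have hVp : IsPGroup p V := (Cores.isPGroup_pCore p T).map _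
    -- a second prime
    obtain ⟨r, hr, hrp⟩ := Finset.exists_mem_ne
      (Nat.lt_of_succ_le hF2 : 1 < (Nat.card (Cfsg.fittingOf H)).primeFactors.card) p
    obtain ⟨hr', hrn, -⟩ := Nat.mem_primeFactors.1 hr
    have : Fact r.Prime := ⟨hr'⟩
    obtain ⟨A, hAp, ⟨hAM, hAF⟩, -, hCA⟩ := exists_local_center hHmax hM hCM hp hpn
    obtain ⟨B, hBr, ⟨hBM, -⟩, hHB, hCB⟩ := exists_local_center hHmax hM hCM hr' hrn
    have hAN : A ≤ N := hAM.trans hMR
    have hBN : B ≤ N := hBM.trans hMR
    set A' : Subgroup (N ⧸ O.subgroupOf N) := (A.subgroupOf N).map f with hA'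
    set B' : Subgroup (N ⧸ O.subgroupOf N) := (B.subgroupOf N).map f with hB'
    have hBr' : IsPGroup r B' := (hBr.comap_subtype (K := N)).map f
    have hBV : B' ≤ Subgroup.centralizer (V : Set _) := by
      refine Coprime.thompson_pq p ((hAp.comap_subtype (K := N)).map f) ?_ hVp ?_
        (le_top.trans (Subgroup.normalizer_eq_top _).ge) (le_top.trans (Subgroup.normalizer_eq_top _).ge)
        ?_
      · obtain ⟨k, hk⟩ := IsPGroup.iff_card.1 hBr'
        rw [hk]
        exact Nat.Coprime.pow_left k ((Nat.coprime_primes hr' hp).2 hrp)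
      · rintro _ ⟨a, ha, rfl⟩ _ ⟨b, hb, rfl⟩
        rw [← map_mul, ← map_mul]
        congr 1
        exact Subtype.ext (hAF ha _ (hM (hBM hb)))
      · rintro v ⟨hvV, hvA⟩
        obtain ⟨v₀, rfl⟩ := QuotientGroup.mk'_surjective _ v
        have hfix : ∀ a ∈ A.subgroupOf N, f (v₀ * a * v₀⁻¹) = f a := fun a ha => by
          rw [map_mul, map_mul, map_inv, mul_inv_eq_iff_eq_mul]
          exact (Subgroup.mem_centralizer_iff.1 hvA (f a) ⟨a, ha, rfl⟩).symm
        have hcopAO : (Nat.card (A.subgroupOf N)).Coprime (Nat.card (O.subgroupOf N)) := by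
          rw [Cores.card_subgroupOf hAN, Cores.card_subgroupOf hON]
          refine Nat.coprime_of_dvd fun t ht h1 h2 => (hOY t ht h2).2 ?_
          obtain ⟨k, hk⟩ := IsPGroup.iff_card.1 hAp
          rw [hk] at h1
          rwa [(Nat.prime_dvd_prime_iff_eq ht hp).1 (ht.dvd_of_dvd_pow h1)]
        have hAO : A.subgroupOf N ≤ Subgroup.normalizer ((O.subgroupOf N : Subgroup N) : Set N) :=
          le_top.trans (Subgroup.normalizer_eq_top _).ge
        obtain ⟨m, hm, hmA⟩ := Coprime.exists_conj_eq_of_le_sup (L := MulAut.conj v₀ • A.subgroupOf N)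
          hAO hcopAO (Or.inl (Coprime.isSolvable_of_isPGroup (hAp.comap_subtype (K := N)))) (by
            intro x hx
            rw [Coprime.mem_conj] at hx
            have h1 := hfix _ hx
            rw [show v₀ * (v₀⁻¹ * x * v₀) * v₀⁻¹ = x by group] at h1
            refine (Coprime.mem_sup_iff hAO).2 ⟨x * (v₀⁻¹ * x * v₀)⁻¹, ?_, _, hx, by group⟩
            rw [← QuotientGroup.eq_one_iff, QuotientGroup.mk_mul, QuotientGroup.mk_inv]
            exact mul_inv_eq_one.2 h1)
          (Coprime.card_conj _ _)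
        have hfc : f (m⁻¹ * v₀) = f v₀ := by
          have hm1 : f m = 1 := (QuotientGroup.eq_one_iff m).2 hm
          rw [map_mul, map_inv, hm1, inv_one, one_mul]
        set c : N := m⁻¹ * v₀ with hc
        have hcA : (c : G) ∈ Subgroup.centralizer (A : Set G) := by
          intro a ha
          have h1 : c * ⟨a, hAN ha⟩ * c⁻¹ ∈ A.subgroupOf N := by
            have h0 : v₀ * ⟨a, hAN ha⟩ * v₀⁻¹ ∈ MulAut.conj m • A.subgroupOf N := by
              rw [hmA]
              exact Coprime.conj_mem_conj.2 ha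
            rw [Coprime.mem_conj] at h0
            rw [hc]
            simpa [mul_assoc] using h0
          have h2 : c * ⟨a, hAN ha⟩ * c⁻¹ * (⟨a, hAN ha⟩ : N)⁻¹ = 1 := by
            refine Coprime.eq_one_of_mem_of_mem hcopAO (mul_mem h1 (inv_mem ha)) ?_
            rw [← QuotientGroup.eq_one_iff, QuotientGroup.mk_mul, QuotientGroup.mk_inv,
              mul_inv_eq_one]
            have h3 := hfix ⟨a, hAN ha⟩ ha
            rw [map_mul, map_mul, map_inv, ← hfc, ← map_inv, ← map_mul, ← map_mul] at h3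
            exact h3
          rw [mul_inv_eq_one, mul_inv_eq_iff_eq_mul] at h2
          exact (congrArg Subtype.val h2).symm
        have hcB : (c : G) ∈ Subgroup.normalizer (B : Set G) := hHB (hCA hcA)
        rintro _ ⟨b, hb, rfl⟩
        have hw : f (c * b * c⁻¹ * b⁻¹) ∈ B' ⊓ V := by
          refine ⟨⟨_, mul_mem ?_ (inv_mem hb), rfl⟩, ?_⟩
          · exact (Subgroup.mem_normalizer_iff.1 hcB _).1 hb
          · rw [map_mul, map_mul, map_mul, map_inv, map_inv, hfc, mul_assoc (f v₀), mul_assoc (f v₀)]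
            exact mul_mem hvV (hVn.conj_mem _ (inv_mem hvV) _)
        rw [(IsPGroup.disjoint_of_ne r p hrp B' V hBr' hVp).eq_bot, Subgroup.mem_bot, map_mul, map_mul,
          map_mul, map_inv, map_inv, hfc, mul_inv_eq_one, mul_inv_eq_iff_eq_mul] at hw
        exact hw.symm
    -- `Y'` centralizes `V`
    have hY1 : Y ⊓ Subgroup.centralizer (B : Set G) = ⊥ :=
      eq_bot_iff.2 ((inf_le_inf_left Y hCB).trans hYH.le)
    have hY2 : Y = ⁅Y, B⁆ := by
      have hBr2 : ∃ k, Nat.card B = r ^ k := IsPGroup.iff_card.1 hBr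
      have := Coprime.commutator_sup_centralizer (A := B) (K := Y) (hBM.trans hMY)
        (Nat.coprime_of_dvd fun t ht h1 h2 => (hY t ht h2).2 (by
          obtain ⟨k, hk⟩ := hBr2
          rw [hk] at h1
          rwa [(Nat.prime_dvd_prime_iff_eq ht hr').1 (ht.dvd_of_dvd_pow h1)]))
        (Or.inl (Coprime.isSolvable_of_isPGroup hBr))
      rwa [hY1, sup_bot_eq, eq_comm] at this
    have hY3 : Y' ≤ Subgroup.centralizer (V : Set _) := by
      rintro _ ⟨y, hy, rfl⟩
      have hcn : (Subgroup.centralizer (V : Set (N ⧸ O.subgroupOf N))).Normal := inferInstance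
      have h1 : ⁅Y.subgroupOf N, B.subgroupOf N⁆ ≤
          (Subgroup.centralizer (V : Set (N ⧸ O.subgroupOf N))).comap f := by
        rw [← Subgroup.map_le_iff_le_comap, Subgroup.map_commutator]
        exact (Subgroup.commutator_mono le_rfl hBV).trans
          (Subgroup.commutator_le_right _ _)
      have h2 : (⁅Y.subgroupOf N, B.subgroupOf N⁆).map N.subtype = Y := by
        rw [Subgroup.map_commutator, Subgroup.map_subgroupOf_eq_of_le hYN,
          Subgroup.map_subgroupOf_eq_of_le hBN, ← hY2]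
      have hy' : (y : G) ∈ (⁅Y.subgroupOf N, B.subgroupOf N⁆).map N.subtype := by
        rw [h2]; exact hy
      obtain ⟨y', hy', he⟩ := hy'
      exact Subtype.ext (a1 := y') he ▸ h1 hy'
    intro y hy v hv
    exact Subtype.ext (hY3 hy _ ⟨v, hv, rfl⟩)
  have hY'bot : Y' = ⊥ := by
    rw [eq_bot_iff]
    intro y hy
    have : (⟨y, hY'T hy⟩ : T) ∈ Y'.subgroupOf T := hy
    rw [key, Subgroup.mem_bot] at this
    exact congrArg Subtype.val this
  intro y hy
  have h := Subgroup.map_eq_bot_iff _ |>.1 hY'bot (show (⟨y, hYN hy⟩ : N) ∈ Y.subgroupOf N from hy)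
  rwa [hf, QuotientGroup.ker_mk'] at h

end Cfsg.Agent.LocalFitting
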